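import Groth.Agent.ProjConstLib.Basic
import Groth.Agent.GenusZeroLib.PSmooth
import Mathlib.RingTheory.Polynomial.UniqueFactorization

/-!
# A morphism from `P^n` to `P^m`, `m < n`, is constant
-/

set_option autoImplicit false
set_option linter.style.haveILetI false
set_option maxHeartbeats 2000000
universe u

open CategoryTheory CategoryTheory.Limits AlgebraicGeometry TopologicalSpace Opposite
open MvPolynomial (X C)

noncomputable section

namespace ProjConstLib

variable {k : Type u} [Field k] {n m : ℕ}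

local notation "S'" => MvPolynomial (Fin (n + 1)) k
local notation "𝒮" => CohB1.polyGrading n k
local notation "K'" => FractionRing (MvPolynomial (Fin (n + 1)) k)

variable (f : CohB1.ProjSpace n k ⟶ CohB1.ProjSpace m k)

/-- The value at the generic point of the pulled-back coordinate ratio `x_b / x_c`. -/
def ratio (c : Fin (m + 1)) (hc : (PicPnLib.genPt n k : CohB1.ProjSpace n k) ∈ f ⁻¹ᵁ QCohLib.stdOpen m k c)
    (b : Fin (m + 1)) : K' :=
  PicPnLib.ev n k hc (f.app (QCohLib.stdOpen m k c) (GradedCechLib.deh m k c (X b)))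

theorem ratio_self (c : Fin (m + 1)) (hc) : ratio f c hc c = 1 := by
  rw [ratio, GradedCechLib.deh_X_self, map_one, map_one]

theorem ratio_mul (a c : Fin (m + 1)) (ha) (hc) (b : Fin (m + 1)) :
    ratio f a ha b = ratio f c hc b * ratio f a ha c := by
  let W := QCohLib.stdOpen m k a ⊓ QCohLib.stdOpen m k c
  have hW : (PicPnLib.genPt n k : CohB1.ProjSpace n k) ∈ f ⁻¹ᵁ W := ⟨ha, hc⟩
  have h := congrArg (fun z => PicPnLib.ev n k hW (f.app W z))
    (GradedCechLib.resO_deh_X m k a c b (inf_le_left : W ≤ _) (inf_le_right : W ≤ _))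
  have hres : ∀ {V : (CohB1.ProjSpace m k).Opens} (hle : W ≤ V) (z : Γ(CohB1.ProjSpace m k, V)),
      PicPnLib.ev n k hW (f.app W (GradedCechLib.resO m k hle z)) =
        PicPnLib.ev n k (show _ ∈ f ⁻¹ᵁ V from hle hW) (f.app V z) := by
    intro V hle z
    refine Eq.trans (congrArg (PicPnLib.ev n k hW)
      (ConcreteCategory.congr_hom (f.naturality (homOfLE hle).op) z)) ?_
    exact PicPnLib.ev_res n k (f.preimage_mono hle) hW (f.app V z)
  simp only [map_mul, hres] at h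
  exact h

theorem ev_app_cstOn (hf : f ≫ CohB1.ProjSpace.toSpec m k = CohB1.ProjSpace.toSpec n k)
    (V : (CohB1.ProjSpace m k).Opens) (hV : (PicPnLib.genPt n k : CohB1.ProjSpace n k) ∈ f ⁻¹ᵁ V) (c : k) :
    PicPnLib.ev n k hV (f.app V (GradedCechLib.cstOn m k V c)) = algebraMap S' K' (C c) := by
  refine Eq.trans (congrArg (PicPnLib.ev n k hV)
    (ConcreteCategory.congr_hom (f.naturality (homOfLE (le_top : V ≤ ⊤)).op) _)) ?_
  refine (PicPnLib.ev_res n k (f.preimage_mono (le_top : V ≤ ⊤)) hV _).trans ?_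
  have h : f.app ⊤ (Coh.toGlobal (CohB1.ProjSpace.toSpec m k) c) = Coh.toGlobal (CohB1.ProjSpace.toSpec n k) c := by
    show ((CohB1.ProjSpace.toSpec m k).appTop ≫ f.appTop) _ = _
    rw [← Scheme.Hom.comp_appTop, hf]
    rfl
  refine (congrArg (PicPnLib.ev n k (f.preimage_mono (le_top : V ≤ ⊤) hV)) h).trans ?_
  exact (PicPnLib.ev_res n k (le_top : f ⁻¹ᵁ V ≤ ⊤) hV _).symm.trans (ev_cstOn k n hV c)

theorem exists_chart (y : CohB1.ProjSpace n k) : ∃ c, y ∈ f ⁻¹ᵁ QCohLib.stdOpen m k c := by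
  have h : f y ∈ ⨆ i, QCohLib.stdOpen m k i := by rw [QCohLib.iSup_stdOpen]; trivial
  obtain ⟨i, hi⟩ := Opens.mem_iSup.1 h
  exact ⟨i, hi⟩

/-- The ratios in one chart are constant. -/
theorem exists_const_ratio (hmn : m < n) (a : Fin (m + 1)) (ha) :
    ∃ c : Fin (m + 1) → k, c a = 1 ∧ ∀ b, ratio f a ha b = algebraMap S' K' (C (c b)) := by
  classical
  have hinj := IsFractionRing.injective S' K'
  let Rep : ℕ → Prop := fun e => ∃ G : Fin (m + 1) → S', (∀ b, G b ∈ 𝒮 e) ∧ G a ≠ 0 ∧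
    ∀ b, ratio f a ha b * algebraMap S' K' (G a) = algebraMap S' K' (G b)
  have hex : ∃ e, Rep e := by
    choose d u v hu hv hvη hv0 huv using fun b => exists_ratio k n ha
      (f.app (QCohLib.stdOpen m k a) (GradedCechLib.deh m k a (X b))) (PicPnLib.genPt n k) ha
    let D : S' := ∏ b, v b
    have hD : D ∈ 𝒮 (∑ b, d b) := SetLike.prod_mem_graded 𝒮 d v fun b _ => hv b
    have hD0 : D ≠ 0 := Finset.prod_ne_zero_iff.2 fun b _ => hv0 b
    have key : ∀ b, ∃ g, g ∈ 𝒮 (∑ b, d b) ∧ ratio f a ha b * algebraMap S' K' D = algebraMap S' K' g := by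
      intro b
      refine ⟨u b * ∏ c ∈ Finset.univ.erase b, v c, ?_, ?_⟩
      · rw [← Finset.add_sum_erase _ d (Finset.mem_univ b)]
        exact SetLike.mul_mem_graded (hu b) (SetLike.prod_mem_graded 𝒮 d v fun c _ => hv c)
      · rw [map_mul, ← huv b, show D = v b * ∏ c ∈ Finset.univ.erase b, v c from
          (Finset.mul_prod_erase _ v (Finset.mem_univ b)).symm, map_mul, ratio]
        ring
    choose G hG1 hG2 using key
    have hGa : G a = D := hinj (by rw [← hG2 a, ratio_self, one_mul])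
    exact ⟨∑ b, d b, G, hG1, hGa ▸ hD0, fun b => by rw [hGa]; exact hG2 b⟩
  obtain ⟨G, hG, hGa, hGr⟩ := Nat.find_spec hex
  by_cases he : Nat.find hex = 0
  · have hC : ∀ b, G b = C ((G b).coeff 0) := fun b => by
      have h := (MvPolynomial.mem_homogeneousSubmodule _ _).1 (hG b)
      rw [he] at h
      exact (MvPolynomial.totalDegree_eq_zero_iff_eq_C).1 (Nat.le_zero.1 h.totalDegree_le)
    have ha0 : (G a).coeff 0 ≠ 0 := fun h => hGa (by rw [hC a, h, map_zero])
    refine ⟨fun b => (G b).coeff 0 / (G a).coeff 0, div_self ha0, fun b => ?_⟩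
    have hKa : algebraMap S' K' (G a) ≠ 0 := (map_ne_zero_iff _ hinj).2 hGa
    refine mul_right_cancel₀ hKa ((hGr b).trans ?_)
    have h4 : C ((G b).coeff 0 / (G a).coeff 0) * G a = G b := by
      conv => lhs; arg 2; rw [hC a]
      rw [← map_mul, div_mul_cancel₀ _ ha0, ← hC b]
    rw [← map_mul]
    exact congrArg (algebraMap S' K') h4.symm
  exfalso
  obtain ⟨y, hy⟩ := exists_common_zero k n hmn G (Nat.pos_of_ne_zero he) hG
  obtain ⟨c, hc⟩ := exists_chart f y
  have hηc : (PicPnLib.genPt n k : CohB1.ProjSpace n k) ∈ f ⁻¹ᵁ QCohLib.stdOpen m k c :=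
    PicPnLib.genPt_mem n k ⟨y, hc⟩
  have hGc : G c ≠ 0 := by
    intro h
    have h1 := hGr c
    rw [h, map_zero, mul_eq_zero, or_iff_left ((map_ne_zero_iff _ hinj).2 hGa)] at h1
    have h2 := ratio_mul f a c ha hηc a
    rw [h1, mul_zero, ratio_self] at h2
    exact one_ne_zero h2
  -- a prime factor of `G c` through `y`
  obtain ⟨p, hp, hpy, hpc⟩ : ∃ p : S', Prime p ∧ p ∈ y.asHomogeneousIdeal ∧ p ∣ G c := by
    obtain ⟨l, hl, w, hlw⟩ := UniqueFactorizationMonoid.exists_prime_factors (G c) hGc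
    have h1 : l.prod * (w : S') ∈ y.asHomogeneousIdeal.toIdeal := hlw.symm ▸ hy c
    rcases y.isPrime.mem_or_mem h1 with h2 | h2
    · obtain ⟨p, hpl, hpy⟩ := (Ideal.IsPrime.multiset_prod_mem_iff_exists_mem y.isPrime l).1 h2
      exact ⟨p, hl p hpl, hpy, hlw ▸ dvd_mul_of_dvd_left (Multiset.dvd_prod hpl) _⟩
    · exact absurd (Ideal.eq_top_of_isUnit_mem _ h2 w.isUnit) y.isPrime.ne_top
  have hdvd : ∀ b, p ∣ G b := by
    intro b
    obtain ⟨d, u, v, -, -, hvy, -, huv⟩ := exists_ratio k n hηc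
      (f.app (QCohLib.stdOpen m k c) (GradedCechLib.deh m k c (X b))) y hc
    have h1 : algebraMap S' K' (G b * v) = algebraMap S' K' (u * G c) := by
      rw [map_mul, map_mul, ← hGr b, ← hGr c, ratio_mul f a c ha hηc b, ← huv, ratio]
      simp only [ratio]
      ring
    have h2 : p ∣ G b * v := by
      rw [hinj h1]
      exact dvd_mul_of_dvd_right hpc u
    refine (hp.dvd_or_dvd h2).resolve_right fun hpv => hvy ?_
    obtain ⟨w, rfl⟩ := hpv
    exact Ideal.mul_mem_right _ _ hpy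
  choose G' hG' using hdvd
  have hGa' : G' a ≠ 0 := fun h => hGa (by rw [hG' a, h, mul_zero])
  have hhom := fun b => (MvPolynomial.mem_homogeneousSubmodule _ _).1 (hG b)
  obtain ⟨δ, hδ⟩ := HomogFactorLib.exists_isHomogeneous_of_mul hp.ne_zero hGa' (hG' a ▸ hhom a)
  have hδ0 : δ ≠ 0 := by
    intro h
    subst h
    have h1 := (MvPolynomial.totalDegree_eq_zero_iff_eq_C).1 (Nat.le_zero.1 hδ.totalDegree_le)
    refine hp.not_unit (h1 ▸ (IsUnit.map MvPolynomial.C ?_))
    exact isUnit_iff_ne_zero.2 fun h2 => hp.ne_zero (by rw [h1, h2, map_zero])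
  have hG'hom : ∀ b, G' b ∈ 𝒮 (Nat.find hex - δ) := by
    intro b
    rw [MvPolynomial.mem_homogeneousSubmodule]
    rcases eq_or_ne (G' b) 0 with h | h
    · rw [h]; exact MvPolynomial.isHomogeneous_zero _ _ _
    obtain ⟨e', he'⟩ := HomogFactorLib.exists_isHomogeneous_of_mul h hp.ne_zero
      (show (G' b * p).IsHomogeneous (Nat.find hex) by rw [mul_comm, ← hG' b]; exact hhom b)
    have h3 : δ + e' = Nat.find hex :=
      (hδ.mul he').inj_right (hG' b ▸ hhom b) (mul_ne_zero hp.ne_zero h)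
    rwa [show Nat.find hex - δ = e' by omega]
  refine Nat.find_min hex (show Nat.find hex - δ < Nat.find hex by omega) ⟨G', hG'hom, hGa', fun b => ?_⟩
  have hKp : algebraMap S' K' p ≠ 0 := (map_ne_zero_iff _ hinj).2 hp.ne_zero
  refine mul_left_cancel₀ hKp ?_
  rw [← map_mul, ← hG' b, ← hGr b, hG' a, map_mul]
  ring

/-- A rational point. -/
theorem exists_point : ∃ w : Spec (CommRingCat.of k) ⟶ CohB1.ProjSpace n k,
    w ≫ CohB1.ProjSpace.toSpec n k = 𝟙 _ := by
  let X₀ : S' := X 0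
  let hX : X₀ ∈ 𝒮 1 := GradedCechLib.X_mem n k 0
  let e := RingEquiv.ofBijective (GenusZeroLib.chartPoly n k 0) (GenusZeroLib.chartPoly_bijective n k 0)
  let α : HomogeneousLocalization.Away 𝒮 X₀ →+* k := (MvPolynomial.eval (fun _ => (0 : k))).comp e.symm.toRingHom
  refine ⟨Spec.map (CommRingCat.ofHom α) ≫ Proj.awayι 𝒮 X₀ hX one_pos, ?_⟩
  change (Spec.map _ ≫ _) ≫ Proj.toSpecZero 𝒮 ≫ _ = _
  rw [Category.assoc, Proj.awayι_toSpecZero_assoc, ← Spec.map_comp, ← Spec.map_comp, ← Spec.map_id]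
  congr 1
  refine CommRingCat.hom_ext (RingHom.ext fun r => ?_)
  change MvPolynomial.eval _ (e.symm (GradedCechLib.cst n k X₀ r)) = r
  rw [show GradedCechLib.cst n k X₀ r = e (C r) from by simp [e, GenusZeroLib.chartPoly, X₀], e.symm_apply_apply]
  simp

/-- A morphism to a chart is determined by the coordinates. -/
theorem ext_chart {Z : Scheme.{u}} {g g' : Z ⟶ CohB1.ProjSpace m k} (a : Fin (m + 1))
    (h : ⊤ ≤ g ⁻¹ᵁ QCohLib.stdOpen m k a) (h' : ⊤ ≤ g' ⁻¹ᵁ QCohLib.stdOpen m k a)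
    (hp : ∀ p, g.appLE (QCohLib.stdOpen m k a) ⊤ h (GradedCechLib.deh m k a p) =
      g'.appLE (QCohLib.stdOpen m k a) ⊤ h' (GradedCechLib.deh m k a p)) : g = g' := by
  let ι := GradedCechLib.chartι m k a
  haveI : IsOpenImmersion ι := by
    show IsOpenImmersion (Proj.awayι _ _ _ _)
    infer_instance
  have hr : ι.opensRange = QCohLib.stdOpen m k a := Proj.opensRange_awayι _ _ _ _
  have hsub : ∀ {g : Z ⟶ CohB1.ProjSpace m k}, (⊤ : Z.Opens) ≤ g ⁻¹ᵁ QCohLib.stdOpen m k a → Set.range g ⊆ Set.range ι := by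
    rintro g hg _ ⟨z, rfl⟩
    exact (hr.ge (hg (show z ∈ (⊤ : Z.Opens) from trivial)) : g z ∈ ι.opensRange)
  rw [← IsOpenImmersion.lift_fac ι g (hsub h), ← IsOpenImmersion.lift_fac ι g' (hsub h')]
  congr 1
  refine ext_of_isAffine ?_
  refine CommRingCat.hom_ext (RingHom.ext fun w => ?_)
  obtain ⟨z, rfl⟩ := (ConcreteCategory.bijective_of_isIso (Scheme.ΓSpecIso _).inv).2 w
  obtain ⟨p, rfl⟩ := GradedCechLib.deh₀_surjective m k a z
  rw [← GradedCechLib.awayι_appLE_deh]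
  have key : ∀ (l : Z ⟶ _) (g : Z ⟶ CohB1.ProjSpace m k) (e : l ≫ ι = g) (hg : ⊤ ≤ g ⁻¹ᵁ QCohLib.stdOpen m k a),
      l.appTop (ι.appLE (QCohLib.stdOpen m k a) ⊤ (GradedCechLib.chartι_le m k a) (GradedCechLib.deh m k a p)) =
        g.appLE (QCohLib.stdOpen m k a) ⊤ hg (GradedCechLib.deh m k a p) := by
    intro l g e hg
    subst e
    have hl : l.appTop = l.appLE ⊤ ⊤ le_rfl := (Scheme.Hom.appLE_eq_app (f := l) (U := ⊤)).symm
    rw [hl, ← CommRingCat.comp_apply, Scheme.Hom.appLE_comp_appLE]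
  rw [key _ g (IsOpenImmersion.lift_fac _ _ _) h, key _ g' (IsOpenImmersion.lift_fac _ _ _) h']
  exact hp p

/-- **A morphism `P^n ⟶ P^m` with `m < n` is constant.** -/
theorem exists_factor (hmn : m < n) (hf : f ≫ CohB1.ProjSpace.toSpec m k = CohB1.ProjSpace.toSpec n k) :
    ∃ q : Spec (CommRingCat.of k) ⟶ CohB1.ProjSpace m k, f = CohB1.ProjSpace.toSpec n k ≫ q := by
  obtain ⟨a, ha⟩ := exists_chart f (PicPnLib.genPt n k)
  obtain ⟨c, hca, hc⟩ := exists_const_ratio f hmn a ha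
  -- everything lands in the chart `a`
  have htop : ⊤ ≤ f ⁻¹ᵁ QCohLib.stdOpen m k a := by
    intro y _
    obtain ⟨b, hb⟩ := exists_chart f y
    have hηb : (PicPnLib.genPt n k : CohB1.ProjSpace n k) ∈ f ⁻¹ᵁ QCohLib.stdOpen m k b :=
      PicPnLib.genPt_mem n k ⟨y, hb⟩
    have h1 : ratio f b hηb a * algebraMap S' K' (C (c b)) = 1 := by
      rw [← hc b, ← ratio_mul f a b ha hηb a, ratio_self]
    let s := f.app (QCohLib.stdOpen m k b) (GradedCechLib.deh m k b (X a))
    let t := GradedCechLib.cstOn n k (f ⁻¹ᵁ QCohLib.stdOpen m k b) (c b)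
    have hst : s * t = 1 := PicPnLib.ev_injective n k hηb (by
      rw [map_mul, map_one, ev_cstOn k n hηb]; exact h1)
    have h2 : y ∈ (CohB1.ProjSpace n k).basicOpen s :=
      (Scheme.mem_basicOpen _ s y hb).2 ((IsUnit.of_mul_eq_one t hst).map
        ((CohB1.ProjSpace n k).presheaf.germ _ y hb).hom)
    rw [← Scheme.preimage_basicOpen, GradedCechLib.basicOpen_deh_X] at h2
    exact h2.2
  obtain ⟨σ, hσ⟩ := exists_point (k := k) (n := n)
  refine ⟨σ ≫ f, ?_⟩
  have htop' : ⊤ ≤ (CohB1.ProjSpace.toSpec n k ≫ σ ≫ f) ⁻¹ᵁ QCohLib.stdOpen m k a := fun y _ => htop trivial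
  refine ext_chart a htop htop' fun p => ?_
  -- both pullbacks are the constants `p(c)`
  have hη : (PicPnLib.genPt n k : CohB1.ProjSpace n k) ∈ (⊤ : (CohB1.ProjSpace n k).Opens) := trivial
  have hval : f.appLE (QCohLib.stdOpen m k a) ⊤ htop (GradedCechLib.deh m k a p) =
      Coh.toGlobal (CohB1.ProjSpace.toSpec n k) (MvPolynomial.eval c p) := by
    refine RingHom.congr_fun (f := ((f.appLE (QCohLib.stdOpen m k a) ⊤ htop).hom.comp (GradedCechLib.deh m k a)))
      (g := (Coh.toGlobal (CohB1.ProjSpace.toSpec n k)).comp (MvPolynomial.eval c))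
      (MvPolynomial.ringHom_ext (fun r => ?_) fun b => ?_) p
    all_goals simp only [RingHom.coe_comp, Function.comp_apply]
    all_goals refine PicPnLib.ev_injective n k hη ?_
    · show _ = PicPnLib.ev n k hη (Coh.toGlobal (CohB1.ProjSpace.toSpec n k) (MvPolynomial.eval c (C r)))
      rw [GradedCechLib.deh_C, MvPolynomial.eval_C]
      refine (PicPnLib.ev_res n k htop hη (f.app _ (GradedCechLib.cstOn m k _ r))).trans ?_
      rw [ev_app_cstOn f hf]
      exact ((PicPnLib.ev_res n k (le_top : ⊤ ≤ ⊤) hη _).symm.trans (ev_cstOn k n hη r)).symm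
    · show _ = PicPnLib.ev n k hη (Coh.toGlobal (CohB1.ProjSpace.toSpec n k) (MvPolynomial.eval c (X b)))
      rw [MvPolynomial.eval_X]
      refine (PicPnLib.ev_res n k htop hη (f.app _ (GradedCechLib.deh m k a (X b)))).trans ?_
      exact (hc b).trans ((PicPnLib.ev_res n k (le_top : ⊤ ≤ ⊤) hη _).symm.trans (ev_cstOn k n hη (c b))).symm
  rw [hval]
  have hφ : (CohB1.ProjSpace.toSpec n k ≫ σ ≫ f).appLE (QCohLib.stdOpen m k a) ⊤ htop' (GradedCechLib.deh m k a p) =
      (CohB1.ProjSpace.toSpec n k ≫ σ).appTop (f.appLE (QCohLib.stdOpen m k a) ⊤ htop (GradedCechLib.deh m k a p)) := by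
    have key : ∀ (l : CohB1.ProjSpace n k ⟶ CohB1.ProjSpace n k) (g : CohB1.ProjSpace n k ⟶ CohB1.ProjSpace m k)
        (e : l ≫ f = g) (hg : ⊤ ≤ g ⁻¹ᵁ QCohLib.stdOpen m k a) (z),
        g.appLE (QCohLib.stdOpen m k a) ⊤ hg z = l.appTop (f.appLE (QCohLib.stdOpen m k a) ⊤ htop z) := by
      intro l g e hg z
      subst e
      have hl : l.appTop = l.appLE ⊤ ⊤ le_rfl := (Scheme.Hom.appLE_eq_app (f := l) (U := ⊤)).symm
      rw [hl, ← CommRingCat.comp_apply, Scheme.Hom.appLE_comp_appLE]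
    exact key _ _ (Category.assoc _ _ _) htop' _
  rw [hφ, hval]
  show _ = ((CohB1.ProjSpace.toSpec n k).appTop ≫ (CohB1.ProjSpace.toSpec n k ≫ σ).appTop) _
  rw [← Scheme.Hom.comp_appTop, Category.assoc, hσ, Category.comp_id]
  rfl

end ProjConstLib
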