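import Groth.Agent.PicPnLib.Generic
import Groth.Agent.GradedCechLib.Chart
import Groth.Agent.HomogFactorLib.Basic
import Mathlib.RingTheory.Ideal.KrullsHeightTheorem

/-!
# A morphism from `P^n` to `P^m`, `m < n`, is constant: the generic ratios
-/

set_option autoImplicit false
set_option linter.style.haveILetI false
set_option maxHeartbeats 1000000
universe u

open CategoryTheory CategoryTheory.Limits AlgebraicGeometry TopologicalSpace Opposite
open MvPolynomial (X C)

noncomputable section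

namespace ProjConstLib

variable (k : Type u) [Field k] (n : ℕ)

local notation "S'" => MvPolynomial (Fin (n + 1)) k
local notation "𝒮" => CohB1.polyGrading n k
local notation "P" => CohB1.ProjSpace n k
local notation "K'" => FractionRing (MvPolynomial (Fin (n + 1)) k)

/-- The variables generate a prime of height at least their number. -/
theorem le_height_of_X_mem (p : Ideal S') [p.IsPrime] (hX : ∀ i, (X i : S') ∈ p) :
    ((n + 1 : ℕ) : ℕ∞) ≤ p.height := by
  classical
  let φ : ℕ → S' →ₐ[k] S' := fun j => MvPolynomial.aeval fun i => if (i : ℕ) < j then 0 else X i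
  let Q : Fin (n + 2) → PrimeSpectrum S' := fun j =>
    ⟨RingHom.ker (φ j).toRingHom, RingHom.ker_isPrime _⟩
  have hφX : ∀ (j : ℕ) (i : Fin (n + 1)), φ j (X i) = if (i : ℕ) < j then 0 else X i := fun j i => by simp [φ]
  have hmono : StrictMono Q := by
    refine Fin.strictMono_iff_lt_succ.2 fun j => lt_of_le_of_ne ?_ fun h => ?_
    · intro z hz
      have hc : φ (j.val + 1) = (φ (j.val + 1)).comp (φ j.val) := by
        refine MvPolynomial.algHom_ext fun i => ?_
        rw [AlgHom.comp_apply, hφX j.val i]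
        split_ifs with h
        · rw [hφX, if_pos (by omega), map_zero]
        · rfl
      show φ (j.val + 1) z = 0
      rw [hc, AlgHom.comp_apply, show φ j.val z = 0 from hz, map_zero]
    · have h1 : (X j : S') ∈ (Q j.succ).asIdeal := by
        show φ (j.val + 1) (X j) = 0
        rw [hφX, if_pos (by omega)]
      rw [← h] at h1
      have h2 : φ j.val (X j) = 0 := h1
      rw [hφX, if_neg (by omega)] at h2
      exact MvPolynomial.X_ne_zero j h2
  have hlast : (Q (Fin.last (n + 1))).asIdeal ≤ p := by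
    intro z hz
    have h1 : MvPolynomial.constantCoeff z = 0 := by
      have h0 : (MvPolynomial.constantCoeff.comp (φ (n + 1)).toRingHom) = MvPolynomial.constantCoeff := by
        refine MvPolynomial.ringHom_ext (fun c => by simp [φ]) fun i => ?_
        show MvPolynomial.constantCoeff (φ (n + 1) (X i)) = _
        rw [hφX, if_pos i.2]
        simp
      rw [← h0, RingHom.comp_apply, show (φ (n + 1)).toRingHom z = 0 from hz, map_zero]
    have h2 : z ∈ MvPolynomial.idealOfVars (Fin (n + 1)) k ^ 1 := by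
      rw [MvPolynomial.mem_pow_idealOfVars_iff']
      intro x hx
      obtain rfl : x = 0 := (Finsupp.degree_eq_zero_iff x).1 (by omega)
      exact h1
    rw [pow_one] at h2
    exact Ideal.span_le.2 (Set.range_subset_iff.2 hX) h2
  let L : LTSeries (PrimeSpectrum S') := ⟨n + 1, Q, fun i => hmono (Fin.castSucc_lt_succ)⟩
  have hh : ((n + 1 : ℕ) : ℕ∞) ≤ (Q (Fin.last (n + 1))).asIdeal.height := by
    rw [PrimeSpectrum.height_eq_orderHeight]
    exact Order.length_le_height_last (p := L)
  exact hh.trans (Ideal.height_mono hlast)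

/-- At most `n` forms of positive degree have a common zero in `P^n`. -/
theorem exists_common_zero {m : ℕ} (hmn : m < n) (G : Fin (m + 1) → S') {e : ℕ} (he : 0 < e)
    (hG : ∀ b, G b ∈ 𝒮 e) : ∃ y : P, ∀ b, G b ∈ y.asHomogeneousIdeal := by
  classical
  let I : Ideal S' := Ideal.span (Set.range G)
  have hI : I.IsHomogeneous 𝒮 := Ideal.homogeneous_span _ _ (by rintro _ ⟨b, rfl⟩; exact ⟨e, hG b⟩)
  have hIX : I ≤ MvPolynomial.idealOfVars (Fin (n + 1)) k := by
    refine Ideal.span_le.2 ?_
    rintro _ ⟨b, rfl⟩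
    rw [SetLike.mem_coe, ← pow_one (MvPolynomial.idealOfVars (Fin (n + 1)) k), MvPolynomial.mem_pow_idealOfVars_iff']
    intro x hx
    exact ((MvPolynomial.mem_homogeneousSubmodule e _).1 (hG b)).coeff_eq_zero (by omega)
  have hne : I ≠ ⊤ := fun h => by
    have h1 : (1 : S') ∈ MvPolynomial.idealOfVars (Fin (n + 1)) k := hIX (h ▸ Submodule.mem_top)
    rw [← pow_one (MvPolynomial.idealOfVars (Fin (n + 1)) k), MvPolynomial.mem_pow_idealOfVars_iff'] at h1
    have h2 : ((1 : S').coeff 0 : k) = 0 := h1 0 (by simp)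
    rw [MvPolynomial.coeff_zero_one] at h2
    exact one_ne_zero h2
  obtain ⟨q, hqmax, hqle⟩ := Ideal.exists_le_maximal I hne
  haveI := hqmax.isPrime
  obtain ⟨p, hp, -⟩ := Ideal.exists_minimalPrimes_le hqle
  haveI := hp.1.1
  have hhom : (p.homogeneousCore 𝒮).toIdeal = p := by
    refine le_antisymm (Ideal.toIdeal_homogeneousCore_le 𝒮 p) (hp.2 ⟨?_, ?_⟩ (Ideal.toIdeal_homogeneousCore_le 𝒮 p))
    · exact Ideal.IsPrime.homogeneousCore inferInstance
    · rw [← hI.toIdeal_homogeneousCore_eq_self]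
      exact Ideal.homogeneousCore_mono 𝒮 hp.1.2
  have hrel : ¬ HomogeneousIdeal.irrelevant 𝒮 ≤ p.homogeneousCore 𝒮 := by
    intro h
    have h1 := le_height_of_X_mem k n p fun i => hhom ▸ h
      (HomogeneousIdeal.mem_irrelevant_of_mem _ one_pos (MvPolynomial.isHomogeneous_X k i))
    have h2 : p.height ≤ ((m + 1 : ℕ) : ℕ∞) := by
      refine (Ideal.height_le_card_of_mem_minimalPrimes_span (Set.finite_range G) hp).trans ?_
      have h3 := Set.ncard_image_le (f := G) (s := Set.univ) Set.finite_univ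
      rw [Set.image_univ, Set.ncard_univ, Nat.card_fin] at h3
      exact_mod_cast h3
    have h4 := h1.trans h2
    norm_cast at h4
    omega
  refine ⟨⟨p.homogeneousCore 𝒮, hhom.symm ▸ hp.1.1, hrel⟩, fun b => ?_⟩
  show G b ∈ (p.homogeneousCore 𝒮).toIdeal
  rw [hhom]
  exact hp.1.2 (Ideal.subset_span ⟨b, rfl⟩)

/-- Near a point, a function is a ratio of forms of the same degree. -/
theorem exists_ratio {V : (P).Opens} (hη : (PicPnLib.genPt n k : P) ∈ V) (r : Γ(P, V)) (y : P) (hy : y ∈ V) :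
    ∃ (d : ℕ) (u v : S'), u ∈ 𝒮 d ∧ v ∈ 𝒮 d ∧ v ∉ y.asHomogeneousIdeal ∧ v ≠ 0 ∧
      PicPnLib.ev n k hη r * algebraMap S' K' v = algebraMap S' K' u := by
  obtain ⟨W, hyW, i, d, a, s, hnin, hw⟩ := (show Twist.O (op V) from r).2 ⟨y, hy⟩
  have hW : (PicPnLib.genPt n k : P) ∈ W := PicPnLib.genPt_mem n k ⟨_, hyW⟩
  have hs0 : (s.1 : S') ≠ 0 := PicPnLib.ne_zero_of_nin n k (hnin ⟨_, hW⟩)
  refine ⟨d, a.1, s.1, a.2, s.2, hnin ⟨_, hyW⟩, hs0, ?_⟩
  have h1 := hw ⟨_, hW⟩
  have h1' : ((show Twist.O (op V) from r).1 ⟨PicPnLib.genPt n k, hη⟩).val =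
      Localization.mk a.1 ⟨s.1, hnin ⟨_, hW⟩⟩ := (congrArg HomogeneousLocalization.val h1).trans
        (HomogeneousLocalization.val_mk _)
  show PicPnLib.toK n k _ * _ = _
  rw [h1', PicPnLib.toK_mk, div_mul_cancel₀]
  exact (map_ne_zero_iff _ (IsFractionRing.injective S' K')).mpr hs0

theorem ev_deh_homogeneous (i : Fin (n + 1)) {p : S'} {d : ℕ} (hp : p.IsHomogeneous d) :
    PicPnLib.ev n k (PicPnLib.mem_stdOpen_genPt n k i) (GradedCechLib.deh n k i p) =
      algebraMap S' K' p / algebraMap S' K' (X i) ^ d := by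
  have h : GradedCechLib.deh₀ n k i p = HomogeneousLocalization.Away.mk 𝒮 (GradedCechLib.X_mem n k i) d p
      (by rw [smul_eq_mul, mul_one]; exact hp) := by
    refine HomogeneousLocalization.val_injective _ ?_
    rw [GradedCechLib.val_deh₀_homogeneous n k i p d hp, HomogeneousLocalization.Away.val_mk]
    rfl
  rw [GradedCechLib.deh, RingHom.comp_apply, h]
  exact PicPnLib.ev_awayToSection n k (GradedCechLib.X_mem n k i) (PicPnLib.mem_stdOpen_genPt n k i) d p _

theorem ev_cstOn {V : (P).Opens} (hη : (PicPnLib.genPt n k : P) ∈ V) (c : k) :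
    PicPnLib.ev n k hη (GradedCechLib.cstOn n k V c) = algebraMap S' K' (C c) := by
  refine (PicPnLib.ev_res n k (le_top : V ≤ ⊤) hη (Coh.toGlobal (CohB1.ProjSpace.toSpec n k) c)).trans ?_
  refine (PicPnLib.ev_res n k (le_top : QCohLib.stdOpen n k 0 ≤ ⊤) (PicPnLib.mem_stdOpen_genPt n k 0)
    (Coh.toGlobal (CohB1.ProjSpace.toSpec n k) c)).symm.trans ?_
  show PicPnLib.ev n k (PicPnLib.mem_stdOpen_genPt n k 0) (GradedCechLib.cstOn n k _ c) = _
  rw [← GradedCechLib.deh_C, ev_deh_homogeneous k n 0 (MvPolynomial.isHomogeneous_C _ c), pow_zero, div_one]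

end ProjConstLib
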